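import Mathlib.Tactic
import Mathlib.Algebra.Field.Basic

/-!
# Four weighted points in a plane and the degree forced by four such configurations
-/

set_option autoImplicit false

namespace CfsgLib.OrderDegrees.NineD8

variable {K : Type*} [Field K]

/-- The adjugate form of the moment matrix `[[α, γ], [γ, β]]`. -/
def adjForm (α γ β u₁ u₂ v₁ v₂ : K) : K := β * u₁ * v₁ - γ * (u₁ * v₂ + u₂ * v₁) + α * u₂ * v₂

/-- Four weighted points with total weight and first moments zero: the products of differences in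
the inverse moment form depend only on the weights. -/
theorem moment_identities {dk di dj dl ak ai aj al bk bi bj bl α γ β : K} (hl : dl ≠ 0)
    (hd : dk + di + dj + dl = 0) (ha : dk * ak + di * ai + dj * aj + dl * al = 0)
    (hb : dk * bk + di * bi + dj * bj + dl * bl = 0)
    (hα : dk * ak ^ 2 + di * ai ^ 2 + dj * aj ^ 2 + dl * al ^ 2 = α)
    (hγ : dk * ak * bk + di * ai * bi + dj * aj * bj + dl * al * bl = γ)
    (hβ : dk * bk ^ 2 + di * bi ^ 2 + dj * bj ^ 2 + dl * bl ^ 2 = β) :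
    dk * adjForm α γ β (ai - ak) (bi - bk) (aj - ak) (bj - bk) = α * β - γ ^ 2 ∧
      di * dk * adjForm α γ β (ai - ak) (bi - bk) (ai - ak) (bi - bk) =
        (di + dk) * (α * β - γ ^ 2) := by
  have hk : dk = -(di + dj + dl) := by linear_combination hd
  obtain ⟨x, rfl⟩ : ∃ x, ai = ak + x := ⟨ai - ak, by ring⟩
  obtain ⟨y, rfl⟩ : ∃ y, bi = bk + y := ⟨bi - bk, by ring⟩
  obtain ⟨u, rfl⟩ : ∃ u, aj = ak + u := ⟨aj - ak, by ring⟩
  obtain ⟨v, rfl⟩ : ∃ v, bj = bk + v := ⟨bj - bk, by ring⟩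
  obtain ⟨z, rfl⟩ : ∃ z, al = ak + z := ⟨al - ak, by ring⟩
  obtain ⟨w, rfl⟩ : ∃ w, bl = bk + w := ⟨bl - bk, by ring⟩
  subst hk
  have hz : z = -(di * x + dj * u) / dl := by
    rw [eq_div_iff hl]; linear_combination ha
  have hw : w = -(di * y + dj * v) / dl := by
    rw [eq_div_iff hl]; linear_combination hb
  subst hz hw hα hγ hβ
  simp only [adjForm, add_sub_cancel_left]
  constructor <;> · field_simp; ring

variable [CharZero K]

omit [CharZero K] in
/-- The elimination common to both fusion patterns. -/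
theorem eliminate {p t s s' u c₁ c₄ c₁' c₄' qπ qD d : K}
    (h1 : p * (t * s * c₁) = -1) (h1' : p * (t * s' * c₁') = -1)
    (h4 : p * (s * u * c₄) = 1) (h4' : p * (s' * u * c₄') = 1)
    (hπ : p * (t ^ 2 * qπ) = 1 + p) (hD : p * d * (u ^ 2 * qD) = p + d) :
    c₁ * c₄' = c₁' * c₄ ∧ d * qD * c₁ ^ 2 * (1 + p) = (p + d) * qπ * c₄ ^ 2 := by
  have e : ∀ {s c₁ c₄ : K}, p * (t * s * c₁) = -1 → p * (s * u * c₄) = 1 →
      u * c₄ = -(t * c₁) := by
    intro s c₁ c₄ a b
    have h : p * s * (u * c₄ + t * c₁) = 0 := by linear_combination a + b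
    have hps : p * s ≠ 0 := fun e0 => by
      rw [show p * (s * u * c₄) = p * s * (u * c₄) by ring, e0, zero_mul] at b
      exact zero_ne_one b
    exact eq_neg_of_add_eq_zero_left ((mul_eq_zero.1 h).resolve_left hps)
  have he := e h1 h4
  have he' := e h1' h4'
  have ht : t ≠ 0 := fun e0 => by simp [e0] at h1
  constructor
  · refine mul_left_cancel₀ ht ?_
    linear_combination c₄' * he - c₄ * he'
  · linear_combination c₄ ^ 2 * qπ * hD - d * qD * c₁ ^ 2 * hπ
      - p * d * qD * qπ * (u * c₄ - t * c₁) * he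

/-- The three involution classes unfused: the shared signed degree is one. -/
theorem endgame_alpha {p d x y a b a' b' X Y : K}
    (hp : p ≠ 0) (hPP : 2 * x * x + y * y = x * x + 2 * (y * y))
    (hee : 2 * a * a + b * b = a * a + 2 * (b * b))
    (hee' : 2 * a' * a' + b' * b' = a' * a' + 2 * (b' * b'))
    (hDD : 2 * X * X + Y * Y = X * X + 2 * (Y * Y))
    (h1 : p * (2 * x * a + y * b) = -1) (h1' : p * (x * a' + 2 * (y * b')) = -1)
    (h4 : p * (a * X + 2 * (b * Y)) = 1) (h4' : p * (2 * a' * X + b' * Y) = 1)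
    (hπ : p * (2 * x * x + y * y) = 1 + p) (hD : p * d * (X * X + 2 * (Y * Y)) = p + d) :
    d = 1 := by
  have sq : ∀ {u v : K}, 2 * u * u + v * v = u * u + 2 * (v * v) → v = u ∨ v = -u := by
    intro u v h
    have : (v - u) * (v + u) = 0 := by linear_combination -h
    rcases mul_eq_zero.1 this with h' | h'
    · exact Or.inl (sub_eq_zero.1 h')
    · exact Or.inr (eq_neg_of_add_eq_zero_left h')
  obtain ⟨ε, hε, rfl⟩ : ∃ ε : K, (ε = 1 ∨ ε = -1) ∧ y = ε * x := by
    rcases sq hPP with h | h <;> [exact ⟨1, Or.inl rfl, by simp [h]⟩; exact ⟨-1, Or.inr rfl, by simp [h]⟩]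
  obtain ⟨f, hf, rfl⟩ : ∃ f : K, (f = 1 ∨ f = -1) ∧ b = f * a := by
    rcases sq hee with h | h <;> [exact ⟨1, Or.inl rfl, by simp [h]⟩; exact ⟨-1, Or.inr rfl, by simp [h]⟩]
  obtain ⟨g, hg, rfl⟩ : ∃ g : K, (g = 1 ∨ g = -1) ∧ b' = g * a' := by
    rcases sq hee' with h | h <;> [exact ⟨1, Or.inl rfl, by simp [h]⟩; exact ⟨-1, Or.inr rfl, by simp [h]⟩]
  obtain ⟨k, hk, rfl⟩ : ∃ k : K, (k = 1 ∨ k = -1) ∧ Y = k * X := by
    rcases sq hDD with h | h <;> [exact ⟨1, Or.inl rfl, by simp [h]⟩; exact ⟨-1, Or.inr rfl, by simp [h]⟩]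
  obtain ⟨hrel, hdeg⟩ := eliminate (qπ := 3) (qD := 3) (d := d) (t := x) (s := a) (s' := a') (u := X)
    (c₁ := 2 + ε * f) (c₁' := 1 + 2 * (ε * g)) (c₄ := 1 + 2 * (f * k)) (c₄' := 2 + g * k)
    (p := p) (by linear_combination h1) (by linear_combination h1') (by linear_combination h4)
    (by linear_combination h4')
    (by rcases hε with rfl | rfl <;> linear_combination hπ)
    (by rcases hk with rfl | rfl <;> linear_combination hD)
  have hfin : 3 * p * (d - 1) = 0 → d = 1 := fun h =>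
    sub_eq_zero.1 ((mul_eq_zero.1 h).resolve_left (mul_ne_zero three_ne_zero hp))
  rcases hε with rfl | rfl <;> rcases hf with rfl | rfl <;> rcases hg with rfl | rfl <;>
    rcases hk with rfl | rfl <;> norm_num at hrel <;> norm_num at hdeg <;>
    first
      | exact hfin (by linear_combination hdeg / 9)
      | exact hfin (by linear_combination hdeg)

/-- The central involution fused with one reflection: the shared signed degree is one or lies on
one of two curves. -/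
theorem endgame_beta {p d x y a b a' b' X Y : K}
    (hp : p ≠ 0) (hPP : x * x / 8 + y * y = x * x - 6 * (x * y) + 11 * (y * y))
    (hee : a * a / 8 + b * b = a * a + 6 * (a * b) + 11 * (b * b))
    (hee' : a' * a' - 6 * (a' * b') + 11 * (b' * b') = a' * a' / 2 + b' * b')
    (hDD : X * X + 6 * (X * Y) + 11 * (Y * Y) = X * X / 2 + Y * Y)
    (h1 : p * (x * a / 8 + y * b) = -1)
    (h1' : p * (x * a' - 3 * (x * b' + y * a') + 11 * (y * b')) = -1)
    (h4 : p * (a * X + 3 * (a * Y + b * X) + 11 * (b * Y)) = 1)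
    (h4' : p * (a' * X / 2 + b' * Y) = 1)
    (hπ : p * (x * x / 8 + y * y) = 1 + p) (hD : p * d * (X * X / 2 + Y * Y) = p + d) :
    d = 1 ∨ 81 * p = d * (17 * p - 64) ∨ 1617 * p = d * (17 * p - 1600) := by
  have par : ∀ {u v m n : K}, n ≠ 0 → n * u - m * v = 0 → ∃ t, u = t * m ∧ v = t * n := by
    intro u v m n hn h
    refine ⟨v / n, ?_, by field_simp⟩
    field_simp
    linear_combination h
  obtain ⟨m₁, n₁, hπ', t, rfl, rfl⟩ : ∃ m n : K, (m = 4 ∧ n = 1 ∨ m = 20 ∧ n = 7) ∧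
      ∃ t, x = t * m ∧ y = t * n := by
    have : (1 * x - 4 * y) * (7 * x - 20 * y) = 0 := by linear_combination -8 * hPP
    rcases mul_eq_zero.1 this with h | h
    · exact ⟨4, 1, Or.inl ⟨rfl, rfl⟩, par one_ne_zero h⟩
    · exact ⟨20, 7, Or.inr ⟨rfl, rfl⟩, par (by norm_num) h⟩
  obtain ⟨m₂, n₂, he, s, rfl, rfl⟩ : ∃ m n : K, (m = 4 ∧ n = -1 ∨ m = 20 ∧ n = -7) ∧
      ∃ t, a = t * m ∧ b = t * n := by
    have : (-1 * a - 4 * b) * (-7 * a - 20 * b) = 0 := by linear_combination -8 * hee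
    rcases mul_eq_zero.1 this with h | h
    · exact ⟨4, -1, Or.inl ⟨rfl, rfl⟩, par (by norm_num) h⟩
    · exact ⟨20, -7, Or.inr ⟨rfl, rfl⟩, par (by norm_num) h⟩
  obtain ⟨m₃, n₃, he', s', rfl, rfl⟩ : ∃ m n : K, (m = 2 ∧ n = 1 ∨ m = 10 ∧ n = 1) ∧
      ∃ t, a' = t * m ∧ b' = t * n := by
    have : (1 * a' - 2 * b') * (1 * a' - 10 * b') = 0 := by linear_combination 2 * hee'
    rcases mul_eq_zero.1 this with h | h
    · exact ⟨2, 1, Or.inl ⟨rfl, rfl⟩, par one_ne_zero h⟩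
    · exact ⟨10, 1, Or.inr ⟨rfl, rfl⟩, par one_ne_zero h⟩
  obtain ⟨m₄, n₄, hd', u, rfl, rfl⟩ : ∃ m n : K, (m = -2 ∧ n = 1 ∨ m = -10 ∧ n = 1) ∧
      ∃ t, X = t * m ∧ Y = t * n := by
    have : (1 * X - -2 * Y) * (1 * X - -10 * Y) = 0 := by linear_combination 2 * hDD
    rcases mul_eq_zero.1 this with h | h
    · exact ⟨-2, 1, Or.inl ⟨rfl, rfl⟩, par one_ne_zero h⟩
    · exact ⟨-10, 1, Or.inr ⟨rfl, rfl⟩, par one_ne_zero h⟩
  obtain ⟨hrel, hdeg⟩ := eliminate (qπ := m₁ * m₁ / 8 + n₁ * n₁) (qD := m₄ * m₄ / 2 + n₄ * n₄)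
    (t := t) (s := s) (s' := s') (u := u) (d := d) (p := p)
    (c₁ := m₁ * m₂ / 8 + n₁ * n₂) (c₁' := m₁ * m₃ - 3 * (m₁ * n₃ + n₁ * m₃) + 11 * (n₁ * n₃))
    (c₄ := m₂ * m₄ + 3 * (m₂ * n₄ + n₂ * m₄) + 11 * (n₂ * n₄)) (c₄' := m₃ * m₄ / 2 + n₃ * n₄)
    (by linear_combination h1) (by linear_combination h1') (by linear_combination h4)
    (by linear_combination h4') (by linear_combination hπ) (by linear_combination hD)
  have hfin : 3 * p * (d - 1) = 0 → d = 1 := fun h =>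
    sub_eq_zero.1 ((mul_eq_zero.1 h).resolve_left (mul_ne_zero three_ne_zero hp))
  rcases hπ' with ⟨rfl, rfl⟩ | ⟨rfl, rfl⟩ <;> rcases he with ⟨rfl, rfl⟩ | ⟨rfl, rfl⟩ <;>
    rcases he' with ⟨rfl, rfl⟩ | ⟨rfl, rfl⟩ <;> rcases hd' with ⟨rfl, rfl⟩ | ⟨rfl, rfl⟩ <;>
    norm_num at hrel <;> norm_num at hdeg <;>
    first
      | exact Or.inl (hfin (by linear_combination hdeg))
      | exact Or.inl (hfin (by linear_combination hdeg / 3))
      | exact Or.inl (hfin (by linear_combination hdeg / 9))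
      | exact Or.inl (hfin (by linear_combination hdeg / 27))
      | exact Or.inr (Or.inl (by linear_combination -hdeg / 3))
      | exact Or.inr (Or.inr (by linear_combination -hdeg / 3))

end CfsgLib.OrderDegrees.NineD8
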